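import Mathlib
import Cfsg.Prelude.Def_Characters
import Cfsg.Agent.Lib.helper7.BR.Defs
import Cfsg.Agent.Lib.helper15.PSL.Defs

/-!
# Project O5760 (S0980, 3u): no simple group of order `5760 = 2^7 * 3^2 * 5`

Leader: helper13.  See `PLAN.md` and `Skel.lean.txt` in this folder.
Vocabulary: `nrm P = N_G(P)`, `cen P = C_G(P)` (project BR), `Loc`, `PB0`, `term` (project PSL, `helper15/PSL/Defs.lean`).
-/

set_option autoImplicit false

namespace Cfsg.Agent.Lib.Helper13.O5760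

open Cfsg.Agent.Lib.helper7 Cfsg.Agent.Lib.helper7.BR Cfsg.Agent.Lib.Helper25 Cfsg.Agent.Lib.Helper29
  Cfsg.Agent.Lib.helper15.BH Cfsg.Agent.Lib.helper15.PSL

universe u

variable {G : Type u} [Group G] [Fintype G]

/-- `5` is prime (instance used by all pieces). -/
instance o5760_fact5 : Fact (Nat.Prime 5) := ⟨by norm_num⟩

/-- The principal `5`-block of a group with trivial centre, `|P| = 5`, `C_G(P) = P`, `|N_G(P)| = 10`:
`X = {1, χ}` with `χ = -1` on the `5`-singular elements, `χ(1) = d`, the two members of `Y` of degree `z = d - 1`,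
sign `ε = -1` (so `χ(g) = 1 + η(g)` for `5`-regular `g`, `η ∈ Y`). -/
structure Blk (P : Sylow 5 G) (X Y : Finset (Cfsg.IrrCharacter G)) (a : Cfsg.IrrCharacter G → ℤ)
    (χ : Cfsg.IrrCharacter G) (d z : ℕ) : Prop where
  loc : Loc 5 2 P
  pb : PB0 5 2 (P : Subgroup G) X Y a (-1)
  cen : Subgroup.center G = ⊥
  ne : χ ≠ trivIrr G
  hX : X = {trivIrr G, χ}
  ha : a χ = -1
  degχ : (χ : G → ℂ) 1 = (d : ℂ)
  degY : ∀ η ∈ Y, (η : G → ℂ) 1 = (z : ℂ)
  dz : d = z + 1
  zpos : 0 < z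

end Cfsg.Agent.Lib.Helper13.O5760
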