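import Mathlib
import Cfsg.Agent.Lib.Helper13.O5760.Defs
import Cfsg.Agent.Lib.Helper13.O5760SETUP
import Cfsg.Agent.Lib.Helper13.O5760DEG
import Cfsg.Agent.Lib.Helper11.O5760LOC
import Cfsg.Agent.Lib.Helper11.O5760K43
import Cfsg.Agent.Lib.Helper18.O5760UNIQ
import Cfsg.Agent.Lib.Helper10.O5760C128
import Cfsg.Agent.Lib.Helper10.O5760BOUNDcore
import Cfsg.Agent.Lib.helper2.O5760TOTAL
import Cfsg.Agent.Lib.Helper16.PSLPB2
import Cfsg.Agent.Lib.Helper22.BTKEYcore

/-!
# Project O5760 (S0980), piece MAIN (leader): no simple group of order `5760`.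
-/

set_option autoImplicit false
set_option linter.unusedVariables false
set_option linter.unusedSectionVars false
set_option linter.style.haveILetI false
open scoped ComplexConjugate
open Classical

namespace Cfsg.Agent.Lib.Helper13.O5760

open Cfsg.Agent.Lib.helper7 Cfsg.Agent.Lib.helper7.BR Cfsg.Agent.Lib.helper2 Cfsg.Agent.Lib.Helper25
  Cfsg.Agent.Lib.Helper29 Cfsg.Agent.Lib.helper15.BH Cfsg.Agent.Lib.helper15.PSL
open Cfsg.Agent.Lib.Helper22

universe u

variable {G : Type u} [Group G] [Fintype G]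

/-- MAIN [M] (leader) -/
theorem no_simple_5760 [IsSimpleGroup G] : Nat.card G ≠ 5760 := by
  intro hG
  haveI : Fintype (Cfsg.IrrCharacter G) := Fintype.ofFinite _
  obtain ⟨hperf, hnc, hZ, hsyl⟩ := setup hG
  obtain ⟨P⟩ : Nonempty (Sylow 5 G) := inferInstance
  have hL := loc hG P
  obtain ⟨X, Y, a, ε, hB⟩ := pb_values2 P hL.cardP 2 hL.relIndex rfl le_rfl
  obtain ⟨χ, d, z, hK, hz⟩ := degrees hperf hG hL hZ hB
  have hYne : Y.Nonempty := by
    rw [← Finset.card_pos, hK.pb.cardY]; norm_num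
  obtain ⟨η₀, hη₀⟩ := hYne
  rcases hz with hz | hz
  · exact no_deg3 hG η₀ (by rw [hK.degY η₀ hη₀, hz]; norm_num)
  · subst hz
    have hd : d = 9 := hK.dz
    subst hd
    haveI : Fact (Nat.Prime 2) := ⟨Nat.prime_two⟩
    have h2N : 2 ∣ Nat.card ↥(nrm P) := by
      have h1 : (cen P).relIndex (nrm P) ∣ Nat.card ↥(nrm P) := Subgroup.relIndex_dvd_card _ _
      rwa [hL.relIndex] at h1
    obtain ⟨t', ht'⟩ := exists_prime_orderOf_dvd_card' 2 h2N
    set t : G := (t' : G) with ht
    have htN : t ∈ nrm P := t'.2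
    have ht2 : t ^ 2 = 1 := by
      have h1 : t' ^ 2 = 1 := by rw [← ht']; exact pow_orderOf_eq_one t'
      have := congrArg (fun w : ↥(nrm P) => (w : G)) h1
      simpa using this
    have ht1 : t ≠ 1 := by
      intro h1
      have : t' = 1 := Subtype.ext h1
      rw [this, orderOf_one] at ht'
      omega
    have htinv : t⁻¹ = t := by
      have : t * t = 1 := by rw [← sq]; exact ht2
      exact inv_eq_of_mul_eq_one_left this
    have htreg : ¬ 5 ∣ orderOf t := by
      intro hdvd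
      have h1 : orderOf t ∣ 2 := orderOf_dvd_of_pow_eq_one ht2
      have h2 : 5 ∣ 2 := hdvd.trans h1
      omega
    have hinv := btkey_inverts hL hZ t htN ht2 ht1
    have hall : ∀ s : G, s ^ 2 = 1 → s ≠ 1 → IsConj t s :=
      fun s hs2 hs1 => invol_conj hK t ht2 hinv s hs2 hs1
    have h128 := cent128 hG t hall
    have hle := o5760bound_core hG hK t ht2 hinv
      (fun η₁ hη₁ x hx hx1 => total hK η₁ hη₁ t htinv htreg x hx hx1)
    have hpos : 0 < Nat.card ↥(Subgroup.centralizer ({t} : Set G)) := Nat.card_pos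
    omega

end Cfsg.Agent.Lib.Helper13.O5760
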